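import Cfsg.Agent.H48.OT.PsiIrr

/-!
# S2539, part 5: two concrete facts (helper194 for helper103)

* `SF_sub_Psi` : `S_F ⊆ Ψ`;
* `nn` : `S_F = {±s}` and `F` does not normalise `D_F`: some root of `Ψ` other than `±s` is not orthogonal to `s`;
* `iso_comm` : `r` orthogonal to `Ψ - {±r}`, `±r` not in `S_F`: the conjugates of `h_r(c)` under `F` centralise `D_F`.
-/

set_option autoImplicit false

namespace Cfsg.Agent.H194.OT

open Subgroup Cfsg Cfsg.Lie Cfsg.Lie.ChevalleyDatum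
open Cfsg.Agent.ChevalleyStructure Cfsg.Agent.ChevalleyStructure.Elts Cfsg.Agent.ChevalleyStructure.RootVec
  Cfsg.Agent.ChevalleyStructure.RootVecTab Cfsg.Agent.H412.OT Cfsg.Agent.H186.OT

universe u

variable {D : ChevalleyDatum} {K : Type u} [Field K] {F : Subgroup (GL D.Idx K)}

/-- `⟨-s, t^∨⟩ = -⟨s, t^∨⟩` -/
theorem pr_neg_right (hD : InList D) {t s : ℕ} (hs : s < D.nroots) : pr D t (D.neg s) = - pr D t s := by
  have h1 : ∀ x, pr D t x = ∑ k ∈ Finset.range D.rank, co D t k * D.cartan k x := fun _ => rfl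
  rw [h1, h1, ← Finset.sum_neg_distrib]
  refine Finset.sum_congr rfl fun k hk => ?_
  rw [cartan_neg (checked_of_mem hD) (Finset.mem_range.1 hk) hs, mul_neg]

theorem pr_neg_left_zero (hD : InList D) {t s : ℕ} (ht : t < D.nroots) (hs : s < D.nroots) (h : pr D s t = 0) :
    pr D (D.neg s) t = 0 := by
  apply H48.OT.pr_zero_comm hD ht (neg_lt (checked_of_mem hD) hs)
  rw [pr_neg_right hD hs, H48.OT.pr_zero_comm hD hs ht h, neg_zero]

theorem SF_sub_Psi (hD : InList D) (hZ : Zf F ≤ D.diagonalSubgroup K) : SF D K F ⊆ Psi D K F := by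
  rintro r ⟨hr, hrF⟩
  refine ⟨hr, fun z hz => ?_⟩
  have h1 := (mem_Zf.1 hz).2 _ (hrF (xG_mem_rootSubgroup hD r 1))
  have h2 := tor_conj_xG hD (hZ hz) hr 1
  rw [← h1, mul_inv_cancel_right, mul_one] at h2
  exact (xG_injective hD hr h2).symm

theorem DF_eq_DD (F : Subgroup (GL D.Idx K)) : DF D K F = H48.OT.DD D K (SF D K F) := rfl

/-- **(nn)** -/
theorem nn (hD : InList D) (hZ : Zf F ≤ D.diagonalSubgroup K) (hle : F ≤ GS D K (Psi D K F)) {s : ℕ}
    (hs : s < D.nroots) (hS : SF D K F = {s, D.neg s})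
    (hn : ¬ ∀ g ∈ F, ∀ d ∈ DF D K F, g * d * g⁻¹ ∈ DF D K F) :
    ∃ a ∈ Psi D K F, a ≠ s ∧ a ≠ D.neg s ∧ pr D s a ≠ 0 := by
  by_contra hcon
  push Not at hcon
  apply hn
  have hsub := SF_sub_Psi (F := F) hD hZ
  have hnorm := H48.OT.GS_le_norm (F := F) (P₁ := SF D K F) (P₂ := {a | a ∈ Psi D K F ∧ a ≠ s ∧ a ≠ D.neg s}) hD hZ
    (by
      ext a
      constructor
      · rintro (h | h)
        · exact hsub h
        · exact h.1
      · intro h
        by_cases h1 : a = s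
        · left; rw [hS, h1]; exact Or.inl rfl
        · by_cases h2 : a = D.neg s
          · left; rw [hS, h2]; exact Or.inr rfl
          · exact Or.inr ⟨h, h1, h2⟩)
    (by
      rintro a ha b ⟨hb, hb1, hb2⟩
      have h1 := hcon b hb hb1 hb2
      rw [hS] at ha
      rcases ha with rfl | ha
      · exact h1
      · rw [Set.mem_singleton_iff.1 ha]
        exact pr_neg_left_zero hD hb.1 hs h1)
  intro g hg d hd
  rw [DF_eq_DD] at hd ⊢
  exact (mem_normalizer_iff.1 (hnorm (hle hg)) d).1 hd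

/-- **(iso_comm)** -/
theorem iso_comm (hD : InList D) (hZ : Zf F ≤ D.diagonalSubgroup K) (hle : F ≤ GS D K (Psi D K F)) {r : ℕ}
    (hr : r < D.nroots) (hrS : r ∉ SF D K F) (hrS' : D.neg r ∉ SF D K F)
    (hiso : ∀ a ∈ Psi D K F, a ≠ r → a ≠ D.neg r → pr D r a = 0) (c : K) (hc : c ≠ 0) {g : GL D.Idx K} (hg : g ∈ F)
    {d : GL D.Idx K} (hd : d ∈ DF D K F) : (g * hG hD r c * g⁻¹) * d = d * (g * hG hD r c * g⁻¹) := by
  have hsub := SF_sub_Psi (F := F) hD hZ
  set P : Set ℕ := {a | a ∈ Psi D K F ∧ a ≠ r ∧ a ≠ D.neg r} with hP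
  have hnorm := H48.OT.GS_le_norm (F := F) (P₁ := P) (P₂ := {a | a ∈ Psi D K F ∧ (a = r ∨ a = D.neg r)}) hD hZ
    (by
      ext a
      constructor
      · rintro (h | h)
        · exact h.1
        · exact h.1
      · intro h
        by_cases h1 : a = r
        · exact Or.inr ⟨h, Or.inl h1⟩
        · by_cases h2 : a = D.neg r
          · exact Or.inr ⟨h, Or.inr h2⟩
          · exact Or.inl ⟨h, h1, h2⟩)
    (by
      rintro a ⟨ha, ha1, ha2⟩ b ⟨hb, hb1⟩
      have h1 := hiso a ha ha1 ha2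
      rcases hb1 with rfl | rfl
      · exact H48.OT.pr_zero_comm hD hr ha.1 h1
      · exact H48.OT.pr_zero_comm hD hb.1 ha.1 (pr_neg_left_zero hD ha.1 hr h1))
  have hDF : DF D K F ≤ H48.OT.DD D K P := by
    rw [DF_eq_DD]
    refine iSup₂_le fun a ha => H48.OT.root_le_DD ⟨hsub ha, ?_, ?_⟩
    · rintro rfl; exact hrS ha
    · rintro rfl; exact hrS' ha
  have h1 : g⁻¹ * d * g ∈ H48.OT.DD D K P := by
    have h2 := (mem_normalizer_iff.1 (inv_mem (hnorm (hle hg))) d).1 (hDF hd)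
    rwa [inv_inv] at h2
  have h2 := H48.OT.hG_cent (K := K) hD hr (P := P) (fun a ha => ⟨ha.1.1, hiso a ha.1 ha.2.1 ha.2.2⟩) hc _
    (H48.OT.DD_le_GS P h1)
  calc g * hG hD r c * g⁻¹ * d = g * (hG hD r c * (g⁻¹ * d * g)) * g⁻¹ := by group
    _ = g * ((g⁻¹ * d * g) * hG hD r c) * g⁻¹ := by rw [h2]
    _ = d * (g * hG hD r c * g⁻¹) := by group

end Cfsg.Agent.H194.OT
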